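import Cfsg.Agent.Lib.Helper44.FW.Defs

/-!
# FW (S3211), package [CNT] (helper86)

The count: strictly more square roots of `j` than of `t₀ = x₀ (n x₀ n⁻¹)` in `C(j) ∩ C(t₀)`.
-/

set_option autoImplicit false

namespace Cfsg.Agent.Lib.Helper86.FW

open Cfsg.Agent.Lib.Helper44.FW

universe u

/-- [CNT]. -/
theorem pkgCnt : PkgCnt.{u} := by
  intro G _ _ L₁ L₂ j n cfg x₀ hx₀ hx₀2 hCY hPhi
  obtain ⟨a, b, hCY⟩ := hCY
  classical
  haveI := Fintype.ofFinite G
  -- basic facts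
  have hj2 : j ^ 2 = 1 := by rw [← cfg.ord]; exact pow_orderOf_eq_one j
  have hj1 : j ≠ 1 := by
    intro h
    have := cfg.ord
    rw [h, orderOf_one] at this
    omega
  have hjinv : j⁻¹ = j := by rw [inv_eq_iff_mul_eq_one, ← pow_two]; exact hj2
  have hy₀L₂ : n * x₀ * n⁻¹ ∈ L₂ := by
    rw [← cfg.swap]
    exact ⟨x₀, hx₀, rfl⟩
  have hcomm : Commute x₀ (n * x₀ * n⁻¹) := cfg.comm x₀ hx₀ _ hy₀L₂
  have hYC : ∀ r ∈ L₁ ⊔ L₂, Commute r j := by
    intro r hr
    have := cfg.le hr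
    rw [Subgroup.mem_centralizer_iff] at this
    exact (this j (Set.mem_singleton j)).symm
  have hx₀Y : x₀ ∈ L₁ ⊔ L₂ := Subgroup.mem_sup_left hx₀
  have hy₀Y : n * x₀ * n⁻¹ ∈ L₁ ⊔ L₂ := Subgroup.mem_sup_right hy₀L₂
  have hx₀j : Commute x₀ j := hYC _ hx₀Y
  have hy₀j : Commute (n * x₀ * n⁻¹) j := hYC _ hy₀Y
  have hnj : Commute n j := by
    have := cfg.hn
    rw [Subgroup.mem_centralizer_iff] at this
    exact (this j (Set.mem_singleton j)).symm
  have hy₀2 : (n * x₀ * n⁻¹) ^ 2 = j := by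
    have h1 : (n * x₀ * n⁻¹) ^ 2 = n * (x₀ * x₀) * n⁻¹ := by rw [pow_two]; group
    rw [h1, ← pow_two, hx₀2, hnj.eq]; group
  have hzp : ∀ x ∈ Subgroup.zpowers j, x ^ 2 = 1 := by
    rintro x ⟨k, rfl⟩
    rw [← zpow_natCast, ← zpow_mul, mul_comm, zpow_mul, zpow_natCast, hj2, one_zpow]
  have hx₀nL₂ : x₀ ∉ L₂ := by
    intro h
    apply hj1
    rw [← hx₀2]
    exact hzp x₀ (cfg.meet ▸ Subgroup.mem_inf.mpr ⟨hx₀, h⟩)
  have hy₀nL₁ : n * x₀ * n⁻¹ ∉ L₁ := by
    intro h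
    apply hj1
    rw [← hy₀2]
    exact hzp _ (cfg.meet ▸ Subgroup.mem_inf.mpr ⟨h, hy₀L₂⟩)
  -- `n ∉ Y`
  have hnY : n ∉ L₁ ⊔ L₂ := by
    intro hn
    have hnorm : L₁ ⊔ L₂ ≤ Subgroup.normalizer (L₁ : Set G) := by
      refine sup_le Subgroup.le_normalizer ?_
      intro y hy
      rw [Subgroup.mem_normalizer_iff]
      intro x
      constructor
      · intro hx
        have := cfg.comm x hx y hy
        have h2 : y * x * y⁻¹ = x := by rw [← this]; group
        rw [h2]; exact hx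
      · intro hx
        by_contra hx'
        -- `x = y⁻¹ (y x y⁻¹) y` with `y x y⁻¹ ∈ L₁` commuting with `y`
        have := cfg.comm _ hx y hy
        have h2 : x = y * x * y⁻¹ := by
          have h3 : y * x * y⁻¹ * y = y * (y * x * y⁻¹) := this
          have h4 : y * x = y * (y * x * y⁻¹) := by rw [← h3]; group
          exact mul_left_cancel h4
        exact hx' (h2 ▸ hx)
    have h1 := (Subgroup.mem_normalizer_iff.mp (hnorm hn) x₀).mp hx₀
    exact hy₀nL₁ h1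
  -- `n` commutes with `t₀`
  have hnn : n * n = j := by rw [← pow_two]; exact cfg.hn2
  have hnt : Commute n (x₀ * (n * x₀ * n⁻¹)) := by
    show n * (x₀ * (n * x₀ * n⁻¹)) = x₀ * (n * x₀ * n⁻¹) * n
    calc n * (x₀ * (n * x₀ * n⁻¹)) = n * ((n * x₀ * n⁻¹) * x₀) := by rw [hcomm.eq]
      _ = (n * n) * x₀ * n⁻¹ * x₀ := by group
      _ = x₀ * (n * n) * n⁻¹ * x₀ := by rw [hnn, hx₀j.eq]
      _ = x₀ * (n * x₀ * n⁻¹) * n := by group
  have hx₀t : Commute x₀ (x₀ * (n * x₀ * n⁻¹)) := (Commute.refl x₀).mul_right hcomm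
  have hy₀t : Commute (n * x₀ * n⁻¹) (x₀ * (n * x₀ * n⁻¹)) :=
    hcomm.symm.mul_right (Commute.refl _)
  -- the finsets
  set t₀ := x₀ * (n * x₀ * n⁻¹) with ht₀
  rw [Nat.card_eq_fintype_card, Nat.card_eq_fintype_card, Fintype.card_subtype,
    Fintype.card_subtype]
  set At : Finset G := Finset.univ.filter (fun r => r * j = j * r ∧ r * t₀ = t₀ * r ∧ r ^ 2 = t₀)
    with hAt
  set Aj : Finset G := Finset.univ.filter (fun r => r * j = j * r ∧ r * t₀ = t₀ * r ∧ r ^ 2 = j)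
    with hAj
  set B : Finset G := At.filter (fun r => r ∈ L₁ ⊔ L₂) with hB
  set C : Finset G := At.filter (fun r => ¬ r ∈ L₁ ⊔ L₂) with hC
  have hsplit : B.card + C.card = At.card := Finset.card_filter_add_card_filter_not _
  have hBle : B.card ≤ 4 := by
    have hsub : B ⊆ ({a, a * j, b, b * j} : Finset G) := by
      intro r hr
      rw [hB, Finset.mem_filter, hAt, Finset.mem_filter] at hr
      have := hCY r hr.2 hr.1.2.2.2
      simp only [Finset.mem_insert, Finset.mem_singleton]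
      exact this
    exact (Finset.card_le_card hsub).trans Finset.card_le_four
  -- the image of `C`
  set I : Finset G := C.image (fun r => r * x₀) with hI
  have hIcard : I.card = C.card :=
    Finset.card_image_of_injective _ (mul_left_injective x₀)
  have hImem : ∀ s ∈ I, s ∉ L₁ ⊔ L₂ ∧ s ≠ n ∧ s ∈ Aj := by
    intro s hs
    rw [hI, Finset.mem_image] at hs
    obtain ⟨r, hr, rfl⟩ := hs
    rw [hC, Finset.mem_filter, hAt, Finset.mem_filter] at hr
    obtain ⟨⟨-, hrj, hrt, hr2⟩, hrY⟩ := hr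
    have hrC : r ∈ Subgroup.centralizer ({j} : Set G) := by
      rw [Subgroup.mem_centralizer_iff]
      intro h hh
      rw [Set.mem_singleton_iff] at hh
      rw [hh]; exact hrj.symm
    obtain ⟨h1, h2⟩ := hPhi r hrC hrY hrt hr2
    refine ⟨?_, h2, ?_⟩
    · intro h
      apply hrY
      have : r = r * x₀ * x₀⁻¹ := by group
      rw [this]
      exact mul_mem h (inv_mem hx₀Y)
    · rw [hAj, Finset.mem_filter]
      refine ⟨Finset.mem_univ _, ?_, ?_, h1⟩
      · exact ((show Commute r j from hrj).mul_left hx₀j).eq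
      · exact ((show Commute r t₀ from hrt).mul_left hx₀t).eq
  -- the five extra elements
  have hx₀ne : x₀ ≠ x₀⁻¹ := by
    intro h
    apply hj1
    rw [← hx₀2, pow_two]
    nth_rewrite 1 [h]
    exact inv_mul_cancel x₀
  have hy₀ne : n * x₀ * n⁻¹ ≠ (n * x₀ * n⁻¹)⁻¹ := by
    intro h
    apply hj1
    rw [← hy₀2, pow_two]
    nth_rewrite 1 [h]
    exact inv_mul_cancel _
  set E : Finset G :=
    insert x₀ (insert x₀⁻¹ (insert (n * x₀ * n⁻¹) (insert (n * x₀ * n⁻¹)⁻¹ (insert n I))))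
    with hE
  have hEcard : E.card = C.card + 5 := by
    rw [hE, Finset.card_insert_of_notMem, Finset.card_insert_of_notMem,
      Finset.card_insert_of_notMem, Finset.card_insert_of_notMem, Finset.card_insert_of_notMem,
      hIcard]
    · intro h; exact (hImem n h).2.1 rfl
    · simp only [Finset.mem_insert, not_or]
      refine ⟨?_, ?_⟩
      · intro h; exact hnY (h ▸ inv_mem hy₀Y)
      · intro h; exact (hImem _ h).1 (inv_mem hy₀Y)
    · simp only [Finset.mem_insert, not_or]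
      refine ⟨hy₀ne, ?_, ?_⟩
      · intro h; exact hnY (h ▸ hy₀Y)
      · intro h; exact (hImem _ h).1 hy₀Y
    · simp only [Finset.mem_insert, not_or]
      refine ⟨?_, ?_, ?_, ?_⟩
      · intro h; exact hy₀nL₁ (h ▸ inv_mem hx₀)
      · intro h; exact hy₀nL₁ ((inv_injective h) ▸ hx₀)
      · intro h; exact hnY (h ▸ inv_mem hx₀Y)
      · intro h; exact (hImem _ h).1 (inv_mem hx₀Y)
    · simp only [Finset.mem_insert, not_or]
      refine ⟨hx₀ne, ?_, ?_, ?_, ?_⟩
      · intro h; exact hy₀nL₁ (h ▸ hx₀)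
      · intro h; exact hx₀nL₂ (h ▸ inv_mem hy₀L₂)
      · intro h; exact hnY (h ▸ hx₀Y)
      · intro h; exact (hImem _ h).1 hx₀Y
  have hEsub : E ⊆ Aj := by
    intro s hs
    rw [hE] at hs
    simp only [Finset.mem_insert] at hs
    rcases hs with rfl | rfl | rfl | rfl | rfl | hs
    · rw [hAj, Finset.mem_filter]
      exact ⟨Finset.mem_univ _, hx₀j.eq, hx₀t.eq, hx₀2⟩
    · rw [hAj, Finset.mem_filter]
      refine ⟨Finset.mem_univ _, hx₀j.inv_left.eq, hx₀t.inv_left.eq, ?_⟩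
      rw [inv_pow, hx₀2, hjinv]
    · rw [hAj, Finset.mem_filter]
      exact ⟨Finset.mem_univ _, hy₀j.eq, hy₀t.eq, hy₀2⟩
    · rw [hAj, Finset.mem_filter]
      refine ⟨Finset.mem_univ _, hy₀j.inv_left.eq, hy₀t.inv_left.eq, ?_⟩
      rw [inv_pow, hy₀2, hjinv]
    · rw [hAj, Finset.mem_filter]
      exact ⟨Finset.mem_univ _, hnj.eq, hnt.eq, cfg.hn2⟩
    · exact (hImem _ hs).2.2
  have hfin := Finset.card_le_card hEsub
  omega

end Cfsg.Agent.Lib.Helper86.FW
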